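import Groth.Agent.AlgSpDec.RedImage
import Groth.Agent.AlgSpDec.LimReduced
import Groth.Agent.AlgSpLib.LargestOpenTop
import Groth.Agent.AlgSpLib.EtaleSmoothLocal

/-!
# Scheme theoretic images of reduced spaces and etale base change
-/

set_option autoImplicit false
set_option backward.isDefEq.respectTransparency false
set_option backward.isDefEq.respectTransparency.types false

universe u

open CategoryTheory CategoryTheory.Limits AlgebraicGeometry AlgSp

namespace Groth.Agent.SchImgEt

open Groth.Agent.AlgSpLib Groth.Agent.AlgSpPts Groth.Agent.AlgSpDec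

variable {S : Scheme.{u}}

/-- A space etale over a reduced space is reduced. -/
theorem isReducedSp_of_isEtaleMor {F G : Sp S} (hF : IsAlgSpace F) (hG : IsReducedSp G) {f : F ⟶ G}
    (hf : IsEtaleMor f) : IsReducedSp F := by
  obtain ⟨U, p, hp, hps⟩ := hF.atlas
  exact ⟨U, p, hp, hps, isReduced_of_etale_reducedSp hG (b := p ≫ f) (hf p hp)⟩

/-- Scheme theoretic images of reduced spaces commute with etale base change. -/
theorem isSchImage_baseChange {X Y Z V XV ZV : Sp S} (hX : IsAlgSpace X) (hY : IsAlgSpace Y) (hZ : IsAlgSpace Z)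
    (hV : IsAlgSpace V) {f : X ⟶ Y} {i : Z ⟶ Y} (hXr : IsReducedSp X) (hi : IsSchImage f i) {b : V ⟶ Y}
    (hb : IsEtaleMor b) {f₁ : XV ⟶ X} {fV : XV ⟶ V} {i₁ : ZV ⟶ Z} {iV : ZV ⟶ V}
    (sqX : IsPullback f₁ fV f b) (sqZ : IsPullback i₁ iV i b) : IsSchImage fV iV := by
  obtain ⟨hic, hir, hZr⟩ := isRedInduced_of_schImage hY hXr hi
  obtain ⟨f', hf'⟩ := hi.2.1
  have hZV : IsAlgSpace ZV := isAlgSpace_of_isPullback sqZ hZ hV hY
  have hZVr : IsReducedSp ZV :=
    isReducedSp_of_isEtaleMor hZV hZr (isEtaleMor_of_isPullback sqZ.flip hV hY hZ hb)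
  have hbo : IsOpenMap (Points.map b) := (openTopology_etale (S := S)).isOpenMap hV hY b hb
  refine ⟨repWith_of_isPullback sqZ hic, ⟨sqZ.lift (f₁ ≫ f') fV (by rw [Category.assoc, hf', sqX.w]),
    sqZ.lift_snd _ _ _⟩, fun Z' i' hZ' hi' hfac => ?_⟩
  refine exists_factor_reduced hZVr iV hi' ?_
  obtain ⟨f'', hf''⟩ := hfac
  have hcl : IsClosed (Set.range (Points.map i')) :=
    (isClosedMap_map (repWith_mono (fun _ _ e (_ : IsClosedImmersion e) => inferInstanceAs (UniversallyClosed e)) _
      hi')).isClosed_range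
  have h1 : closure (Points.map b ⁻¹' Set.range (Points.map f)) ⊆ Set.range (Points.map i') := by
    refine closure_minimal ?_ hcl
    rintro v ⟨x, hx⟩
    obtain ⟨w, -, rfl⟩ := exists_point_of_isPullback sqX hx
    exact ⟨Points.map f'' w, by rw [← Points.map_comp, hf'']⟩
  rintro _ ⟨z, rfl⟩
  refine h1 (hbo.preimage_closure_subset_closure_preimage ?_)
  change Points.map b (Points.map iV z) ∈ closure (Set.range (Points.map f))
  rw [← hir, ← Points.map_comp, ← sqZ.w, Points.map_comp]
  exact Set.mem_range_self _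

end Groth.Agent.SchImgEt
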